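import Groth.Prelude.Def_NonAbH1
import Groth.Prelude.Def_EtBase
import Groth.Agent.Lib.EtSite.SetPoints
import Mathlib.Algebra.Category.Grp.FilteredColimits
import Mathlib.CategoryTheory.Sites.Over
import Mathlib.CategoryTheory.Sites.Whiskering
import Mathlib.CategoryTheory.Filtered.Basic
import Mathlib.CategoryTheory.Category.ULift

/-!
# Sheaves of groups without non-trivial torsors: products of skyscrapers at geometric points
-/

set_option autoImplicit false
set_option backward.isDefEq.respectTransparency false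
set_option backward.isDefEq.respectTransparency.types false
set_option linter.style.haveILetI false

universe u

open CategoryTheory CategoryTheory.Limits AlgebraicGeometry Opposite
open GrothLib.EtSite

noncomputable section

namespace GrothLib.NonAb21

section site

universe v₁ u₁ w

variable {C : Type (u + 1)} [Category.{u} C] {J : GrothendieckTopology C}

/-- The index category of the stalk at a point. -/
abbrev Idx (Φ : GrothendieckTopology.Point.{u} J) : Type (u + 1) := ULiftHom.{u + 1} (Φ.fiber.Elementsᵒᵖ)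

instance (Φ : GrothendieckTopology.Point.{u} J) : IsFiltered (Idx Φ) :=
  IsFiltered.of_equivalence (ULiftHom.equiv (C := Φ.fiber.Elementsᵒᵖ))

variable (F : Sheaf J GrpCat.{u + 1})

/-- The diagram of sections around a point. -/
def stalkDiag (Φ : GrothendieckTopology.Point.{u} J) : Idx Φ ⥤ GrpCat.{u + 1} :=
  ULiftHom.down ⋙ (CategoryOfElements.π Φ.fiber).op ⋙ F.obj

/-- The stalk of a sheaf of groups. -/
def stalkG (Φ : GrothendieckTopology.Point.{u} J) : GrpCat.{u + 1} :=
  (GrpCat.FilteredColimits.colimitCocone.{u + 1, u + 1} (stalkDiag F Φ)).pt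

/-- The germ. -/
def germG (Φ : GrothendieckTopology.Point.{u} J) {V : C} (t : Φ.fiber.obj V) : F.obj.obj (op V) ⟶ stalkG F Φ :=
  (GrpCat.FilteredColimits.colimitCocone.{u + 1, u + 1} (stalkDiag F Φ)).ι.app (ULiftHom.objUp (op (Φ.fiber.elementsMk V t)))

theorem germG_map (Φ : GrothendieckTopology.Point.{u} J) {V W : C} (g : W ⟶ V) (t : Φ.fiber.obj W)
    (s : F.obj.obj (op V)) : germG F Φ t (F.obj.map g.op s) = germG F Φ (Φ.fiber.map g t) s :=
  congr($((GrpCat.FilteredColimits.colimitCocone.{u + 1, u + 1} (stalkDiag F Φ)).w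
    (j' := ULiftHom.objUp (op (Φ.fiber.elementsMk V (Φ.fiber.map g t)))) (j := ULiftHom.objUp (op (Φ.fiber.elementsMk W t)))
    (ULiftHom.up.map (CategoryOfElements.homMk (Φ.fiber.elementsMk W t) (Φ.fiber.elementsMk V (Φ.fiber.map g t)) g rfl).op)) s)

theorem exists_of_germG_eq (Φ : GrothendieckTopology.Point.{u} J) {V : C} (t : Φ.fiber.obj V)
    (s₁ s₂ : F.obj.obj (op V)) (h : germG F Φ t s₁ = germG F Φ t s₂) :
    ∃ (W : C) (g : W ⟶ V) (τ : Φ.fiber.obj W), Φ.fiber.map g τ = t ∧ F.obj.map g.op s₁ = F.obj.map g.op s₂ := by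
  obtain ⟨k, f, f', e⟩ := (Types.FilteredColimit.isColimit_eq_iff (stalkDiag F Φ ⋙ forget GrpCat)
    (isColimitOfPreserves (forget GrpCat) (GrpCat.FilteredColimits.colimitCoconeIsColimit.{u + 1, u + 1} (stalkDiag F Φ)))).1 h
  let k' := IsFiltered.coeq f f'
  let q := IsFiltered.coeqHom f f'
  have hq : f ≫ q = f' ≫ q := IsFiltered.coeq_condition f f'
  refine ⟨(ULiftHom.objDown k').unop.1, (f ≫ q).down.unop.1, (ULiftHom.objDown k').unop.2,
    (f ≫ q).down.unop.2, ?_⟩
  have e' := congrArg ((stalkDiag F Φ).map q) e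
  calc F.obj.map (f ≫ q).down.unop.1.op s₁ = (stalkDiag F Φ).map q ((stalkDiag F Φ).map f s₁) := by
        exact congr($((stalkDiag F Φ).map_comp f q) s₁)
    _ = (stalkDiag F Φ).map q ((stalkDiag F Φ).map f' s₂) := e'
    _ = F.obj.map (f ≫ q).down.unop.1.op s₂ := by
        refine (congr($((stalkDiag F Φ).map_comp f' q) s₂)).symm.trans ?_
        rw [← hq]
        rfl

variable {ι : Type u} (Φ : ι → GrothendieckTopology.Point.{u} J) (S : ι → GrpCat.{u + 1})

/-- The product of skyscrapers. -/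
def godPre : Cᵒᵖ ⥤ GrpCat.{u + 1} where
  obj V := GrpCat.of (∀ i, (Φ i).fiber.obj V.unop → S i)
  map g := GrpCat.ofHom
    { toFun := fun h i t => h i ((Φ i).fiber.map g.unop t)
      map_one' := rfl
      map_mul' := fun _ _ => rfl }
  map_id V := by
    refine ConcreteCategory.hom_ext _ _ fun h => funext fun i => funext fun t => ?_
    change h i ((Φ i).fiber.map (𝟙 _) t) = h i t
    rw [CategoryTheory.Functor.map_id]
    rfl
  map_comp f g := by
    refine ConcreteCategory.hom_ext _ _ fun h => funext fun i => funext fun t => ?_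
    change h i ((Φ i).fiber.map (g.unop ≫ f.unop) t) = h i _
    rw [Functor.map_comp]
    rfl

theorem isSheaf_godPre : Presheaf.IsSheaf J (godPre Φ S) := by
  classical
  refine (Presheaf.isSheaf_iff_isSheaf_forget J (godPre Φ S) (forget GrpCat.{u + 1})).2 ?_
  rw [isSheaf_iff_isSheaf_of_type]
  intro V R hR fam hfam
  have hex := fun i (t : (Φ i).fiber.obj V) => (Φ i).jointly_surjective R hR t
  choose Y f hf y hy using hex
  refine ⟨fun i t => fam (f i t) (hf i t) i (y i t), fun W g hg => funext fun i => funext fun τ => ?_, fun h hh => ?_⟩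
  · let t := (Φ i).fiber.map g τ
    change fam (f i t) (hf i t) i (y i t) = fam g hg i τ
    obtain ⟨e, a, b, hab⟩ := IsCofiltered.cospan
      (CategoryOfElements.homMk ((Φ i).fiber.elementsMk (Y i t) (y i t)) ((Φ i).fiber.elementsMk V t) (f i t) (hy i t))
      (CategoryOfElements.homMk ((Φ i).fiber.elementsMk W τ) ((Φ i).fiber.elementsMk V t) g rfl)
    have := congrFun (congrFun (hfam a.1 b.1 (hf i t) hg (congrArg Subtype.val hab)) i) e.2
    refine Eq.trans ?_ (this.trans ?_)
    · exact congrArg (fam (f i t) (hf i t) i) a.2.symm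
    · exact congrArg (fam g hg i) b.2
  · refine funext fun i => funext fun t => ?_
    have := congrFun (congrFun (hh (f i t) (hf i t)) i) (y i t)
    refine Eq.trans ?_ this
    exact congrArg (h i) (hy i t).symm

/-- The product of skyscrapers, as a sheaf. -/
def god : Sheaf J GrpCat.{u + 1} := ⟨godPre Φ S, isSheaf_godPre Φ S⟩

/-- The map to the product of the stalks. -/
def toGod : F ⟶ god Φ (fun i => stalkG F (Φ i)) := ObjectProperty.homMk
  { app := fun V => GrpCat.ofHom
      { toFun := fun s i t => germG F (Φ i) t s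
        map_one' := funext fun i => funext fun t => map_one (germG F (Φ i) t).hom
        map_mul' := fun a b => funext fun i => funext fun t => map_mul (germG F (Φ i) t).hom a b }
    naturality := fun V W g => by
      refine ConcreteCategory.hom_ext _ _ fun s => funext fun i => funext fun t => ?_
      exact germG_map F (Φ i) g.unop t s }

theorem toGod_injective [J.HasSheafCompose (forget GrpCat.{u + 1})]
    (hcons : ∀ (V : C) (R : Sieve V),
      (∀ i (t : (Φ i).fiber.obj V), ∃ (W : C) (g : W ⟶ V) (τ : (Φ i).fiber.obj W), R g ∧ (Φ i).fiber.map g τ = t) →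
        R ∈ J V)
    (V : Cᵒᵖ) : Function.Injective ((toGod F Φ).hom.app V) := by
  intro s₁ s₂ h
  let R : Sieve V.unop :=
    { arrows := fun W g => F.obj.map g.op s₁ = F.obj.map g.op s₂
      downward_closed := fun {W W'} g hg k => by
        simp only [op_comp, Functor.map_comp, ConcreteCategory.comp_apply]
        rw [hg] }
  have hR : R ∈ J V.unop := hcons _ _ fun i t => by
    obtain ⟨W, g, τ, hτ, e⟩ := exists_of_germG_eq F (Φ i) t s₁ s₂ (congrFun (congrFun h i) t)
    exact ⟨W, g, τ, e, hτ⟩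
  exact ((((isSheaf_iff_isSheaf_of_type _ _).1 ((sheafCompose J (forget GrpCat.{u + 1})).obj F).property) R hR).isSeparatedFor).ext
    fun W g hg => hg

variable (U : C)

/-- Torsors under a product of skyscrapers over an object are trivial. -/
theorem isTrivial_torsor_god (P : NonAbH1.Torsor ((god Φ S).over U)) : P.IsTrivial := by
  classical
  let G := (god Φ S).over U
  let JU := J.over U
  let Q := P.toGSheaf
  have hsh : Presieve.IsSheaf JU Q.P.obj := (isSheaf_iff_isSheaf_of_type _ _).1 Q.P.property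
  -- base sections
  have hbase : ∀ i (t₀ : (Φ i).fiber.obj U), ∃ (W : Over U) (τ : (Φ i).fiber.obj W.left)
      (_ : Q.P.obj.obj (op W)), (Φ i).fiber.map W.hom τ = t₀ := by
    intro i t₀
    obtain ⟨R, hR, hne⟩ := P.isTorsor.2 (Over.mk (𝟙 U))
    rw [GrothendieckTopology.mem_over_iff] at hR
    obtain ⟨W, f, hf, τ, hτ⟩ := (Φ i).jointly_surjective _ hR t₀
    obtain ⟨p⟩ := hne _ ((Sieve.overEquiv_iff (Y := Over.mk (𝟙 U)) _ f).1 hf)
    refine ⟨Over.mk (f ≫ 𝟙 U), τ, p, ?_⟩
    change (Φ i).fiber.map (f ≫ 𝟙 U) τ = t₀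
    erw [Category.comp_id]
    exact hτ
  choose W τ₀ p hp using hbase
  let Good : ∀ V : Over U, Q.P.obj.obj (op V) → Prop := fun V s =>
    ∀ i (t₀ : (Φ i).fiber.obj U) (T : Over U) (a : T ⟶ V) (b : T ⟶ W i t₀) (τ : (Φ i).fiber.obj T.left),
      (Φ i).fiber.map b.left τ = τ₀ i t₀ → ∀ g : G.obj.obj (op T),
        Q.smul g (Q.P.obj.map a.op s) = Q.P.obj.map b.op (p i t₀) → g i τ = 1
  -- common refinements
  have hcommon : ∀ (V : Over U) i (t : (Φ i).fiber.obj V.left),
      ∃ (T : Over U) (a : T ⟶ V) (b : T ⟶ W i ((Φ i).fiber.map V.hom t)) (τ : (Φ i).fiber.obj T.left),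
        (Φ i).fiber.map a.left τ = t ∧ (Φ i).fiber.map b.left τ = τ₀ i ((Φ i).fiber.map V.hom t) := by
    intro V i t
    let t₀ := (Φ i).fiber.map V.hom t
    obtain ⟨e, a, b, hab⟩ := IsCofiltered.cospan
      (CategoryOfElements.homMk ((Φ i).fiber.elementsMk V.left t) ((Φ i).fiber.elementsMk U t₀) V.hom rfl)
      (CategoryOfElements.homMk ((Φ i).fiber.elementsMk (W i t₀).left (τ₀ i t₀)) ((Φ i).fiber.elementsMk U t₀) (W i t₀).hom (hp i t₀))
    refine ⟨Over.mk (a.1 ≫ V.hom), Over.homMk a.1 rfl, Over.homMk b.1 (congrArg Subtype.val hab).symm, e.2, a.2, b.2⟩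
  have hsmul : ∀ {T : Over U} (g g' : G.obj.obj (op T)) (q q' : Q.P.obj.obj (op T)),
      Q.smul g q = q' → Q.smul g' q = q' → g = g' := fun g g' q q' h h' => (P.isTorsor.1 _ q q').unique h h'
  have huniq : ∀ (V : Over U) (s s' : Q.P.obj.obj (op V)), Good V s → Good V s' → s = s' := by
    intro V s s' hs hs'
    obtain ⟨k, hk, -⟩ := P.isTorsor.1 (op V) s s'
    have hk1 : k = 1 := funext fun i => funext fun t => by
      obtain ⟨T, a, b, τ, hat, hbt⟩ := hcommon V i t
      obtain ⟨g', hg', -⟩ := P.isTorsor.1 (op T) (Q.P.obj.map a.op s') (Q.P.obj.map b.op (p i _))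
      have e : Q.smul (g' * G.obj.map a.op k) (Q.P.obj.map a.op s) = Q.P.obj.map b.op (p i _) := by
        rw [Q.mul_smul, ← Q.map_smul, hk]
        exact hg'
      have h1 := hs i _ T a b τ hbt _ e
      have h2 := hs' i _ T a b τ hbt _ hg'
      change g' i τ * k i ((Φ i).fiber.map a.left τ) = 1 at h1
      rw [h2, one_mul, hat] at h1
      exact h1
    rw [← hk, hk1, Q.one_smul]
  have hres : ∀ {V V' : Over U} (f : V' ⟶ V) (s : Q.P.obj.obj (op V)), Good V s → Good V' (Q.P.obj.map f.op s) := by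
    intro V V' f s hs i t₀ T a b τ hb g hg
    refine hs i t₀ T (a ≫ f) b τ hb g ?_
    rw [op_comp, Functor.map_comp]
    exact hg
  have hinv : ∀ (V : Over U) (s : Q.P.obj.obj (op V)) i (t₀ : (Φ i).fiber.obj U) (T T' : Over U)
      (a : T ⟶ V) (a' : T' ⟶ V) (b : T ⟶ W i t₀) (b' : T' ⟶ W i t₀)
      (τ : (Φ i).fiber.obj T.left) (τ' : (Φ i).fiber.obj T'.left),
      (Φ i).fiber.map a.left τ = (Φ i).fiber.map a'.left τ' → (Φ i).fiber.map b.left τ = τ₀ i t₀ →
      (Φ i).fiber.map b'.left τ' = τ₀ i t₀ → ∀ (g : G.obj.obj (op T)) (g' : G.obj.obj (op T')),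
        Q.smul g (Q.P.obj.map a.op s) = Q.P.obj.map b.op (p i t₀) →
        Q.smul g' (Q.P.obj.map a'.op s) = Q.P.obj.map b'.op (p i t₀) → g i τ = g' i τ' := by
    intro V s i t₀ T T' a a' b b' τ τ' hA hB hB' g g' hg hg'
    let eT : (Φ i).fiber.Elements := (Φ i).fiber.elementsMk T.left τ
    let eT' : (Φ i).fiber.Elements := (Φ i).fiber.elementsMk T'.left τ'
    let fa : eT ⟶ ((Φ i).fiber.elementsMk V.left ((Φ i).fiber.map a'.left τ')) := CategoryOfElements.homMk eT ((Φ i).fiber.elementsMk V.left _) a.left hA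
    let fa' : eT' ⟶ ((Φ i).fiber.elementsMk V.left ((Φ i).fiber.map a'.left τ')) := CategoryOfElements.homMk eT' ((Φ i).fiber.elementsMk V.left _) a'.left rfl
    obtain ⟨e₁, c, c', hc⟩ := IsCofiltered.cospan fa fa'
    let fb : e₁ ⟶ ((Φ i).fiber.elementsMk (W i t₀).left (τ₀ i t₀)) := c ≫ CategoryOfElements.homMk eT ((Φ i).fiber.elementsMk (W i t₀).left _) b.left hB
    let fb' : e₁ ⟶ ((Φ i).fiber.elementsMk (W i t₀).left (τ₀ i t₀)) := c' ≫ CategoryOfElements.homMk eT' ((Φ i).fiber.elementsMk (W i t₀).left _) b'.left hB'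
    let d := IsCofiltered.eqHom fb fb'
    have hd := congrArg Subtype.val (IsCofiltered.eq_condition fb fb')
    have hc' := congrArg Subtype.val hc
    let T₃ : Over U := Over.mk ((d ≫ c).1 ≫ T.hom)
    let q : T₃ ⟶ T := Over.homMk (d ≫ c).1 rfl
    let q' : T₃ ⟶ T' := Over.homMk (d ≫ c').1 (by
      change (d.1 ≫ c'.1) ≫ T'.hom = (d.1 ≫ c.1) ≫ T.hom
      rw [← Over.w a, ← Over.w a', Category.assoc, Category.assoc]
      exact congrArg (d.1 ≫ ·) ((Category.assoc _ _ _).symm.trans
        ((congrArg (· ≫ V.hom) hc'.symm).trans (Category.assoc _ _ _))))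
    have ea : q ≫ a = q' ≫ a' := Over.OverMorphism.ext (by
      change (d.1 ≫ c.1) ≫ a.left = (d.1 ≫ c'.1) ≫ a'.left
      rw [Category.assoc, Category.assoc]
      exact congrArg (d.1 ≫ ·) hc')
    have eb : q ≫ b = q' ≫ b' := Over.OverMorphism.ext (by
      change (d.1 ≫ c.1) ≫ b.left = (d.1 ≫ c'.1) ≫ b'.left
      rw [Category.assoc, Category.assoc]
      exact hd)
    have h1 : Q.smul (G.obj.map q.op g) (Q.P.obj.map (q ≫ a).op s) = Q.P.obj.map (q ≫ b).op (p i t₀) := by
      simp only [op_comp, Functor.map_comp, ConcreteCategory.comp_apply]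
      rw [← Q.map_smul, hg]
    have h2 : Q.smul (G.obj.map q'.op g') (Q.P.obj.map (q ≫ a).op s) = Q.P.obj.map (q ≫ b).op (p i t₀) := by
      rw [ea, eb]
      simp only [op_comp, Functor.map_comp, ConcreteCategory.comp_apply]
      rw [← Q.map_smul, hg']
    have key := congrFun (congrFun (hsmul _ _ _ _ h1 h2) i) (IsCofiltered.eq fb fb').2
    have hq : (Φ i).fiber.map (d ≫ c).1 (IsCofiltered.eq fb fb').2 = τ := (d ≫ c).2
    have hq' : (Φ i).fiber.map (d ≫ c').1 (IsCofiltered.eq fb fb').2 = τ' := (d ≫ c').2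
    rw [← hq, ← hq']
    exact key
  have hlocal : ∀ (V : Over U), Nonempty (Q.P.obj.obj (op V)) → ∃ s, Good V s := by
    rintro V ⟨s₀⟩
    choose T a b τ hat hbt using hcommon V
    have hgx := fun i t => (P.isTorsor.1 (op (T i t)) (Q.P.obj.map (a i t).op s₀)
      (Q.P.obj.map (b i t).op (p i _))).exists
    choose g hg using hgx
    let δ : G.obj.obj (op V) := fun i t => g i t i (τ i t)
    refine ⟨Q.smul δ s₀, fun i t₀ T' a' b' τ' hb' g' hg' => ?_⟩
    let t := (Φ i).fiber.map a'.left τ'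
    have ht : t₀ = (Φ i).fiber.map V.hom t := by
      rw [← hp i t₀, ← hb', ← ConcreteCategory.comp_apply, ← Functor.map_comp, Over.w]
      change _ = (Φ i).fiber.map V.hom ((Φ i).fiber.map a'.left τ')
      rw [← ConcreteCategory.comp_apply, ← Functor.map_comp, Over.w]
    subst ht
    have e : Q.smul (g' * G.obj.map a'.op δ) (Q.P.obj.map a'.op s₀) = Q.P.obj.map b'.op (p i _) := by
      rw [Q.mul_smul, ← Q.map_smul]
      exact hg'
    have h3 := hinv V s₀ i _ (T i t) T' (a i t) a' (b i t) b' (τ i t) τ' (hat i t) (hbt i t) hb' (g i t) _ (hg i t) e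
    change δ i t = g' i τ' * δ i t at h3
    exact mul_eq_right.1 h3.symm
  have hglobal : ∀ V : Over U, ∃ s, Good V s := by
    intro V
    obtain ⟨R, hR, hne⟩ := P.isTorsor.2 V
    let fam : Presieve.FamilyOfElements Q.P.obj R.arrows := fun V' f hf => (hlocal V' (hne f hf)).choose
    have hfam : fam.Compatible := fun Y₁ Y₂ Z g₁ g₂ f₁ f₂ h₁ h₂ _ =>
      huniq Z _ _ (hres g₁ _ (hlocal Y₁ (hne f₁ h₁)).choose_spec) (hres g₂ _ (hlocal Y₂ (hne f₂ h₂)).choose_spec)
    obtain ⟨s, hs, -⟩ := hsh R hR fam hfam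
    refine ⟨s, fun i t₀ T a b τ hb g hg => ?_⟩
    have hR' := JU.pullback_stable a hR
    rw [GrothendieckTopology.mem_over_iff] at hR'
    obtain ⟨T', h, hh, τ', hτ'⟩ := (Φ i).jointly_surjective _ hR' τ
    rw [Sieve.overEquiv_iff] at hh
    let q : Over.mk (h ≫ T.hom) ⟶ T := Over.homMk h rfl
    have hgood : Good _ (Q.P.obj.map (q ≫ a).op s) := by
      rw [hs (q ≫ a) hh]
      exact (hlocal _ (hne (q ≫ a) hh)).choose_spec
    have e : Q.smul (G.obj.map q.op g) (Q.P.obj.map (𝟙 (Over.mk (h ≫ T.hom))).op (Q.P.obj.map (q ≫ a).op s)) =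
        Q.P.obj.map (q ≫ b).op (p i t₀) := by
      simp only [op_id, CategoryTheory.Functor.map_id, op_comp, Functor.map_comp, ConcreteCategory.comp_apply]
      change Q.smul (G.obj.map q.op g) (Q.P.obj.map q.op (Q.P.obj.map a.op s)) = _
      rw [← Q.map_smul, hg]
    have := hgood i t₀ _ (𝟙 _) (q ≫ b) τ' (by
      change (Φ i).fiber.map (h ≫ b.left) τ' = _
      rw [Functor.map_comp, ConcreteCategory.comp_apply, hτ', hb]) _ e
    change g i ((Φ i).fiber.map h τ') = 1 at this
    rwa [hτ'] at this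
  choose s hs using hglobal
  have hnat : ∀ {V V' : (Over U)ᵒᵖ} (f : V ⟶ V'), Q.P.obj.map f (s V.unop) = s V'.unop := fun {V V'} f =>
    huniq _ _ _ (hres f.unop _ (hs _)) (hs _)
  let e : ∀ V : (Over U)ᵒᵖ, (NonAbH1.GSheaf.trivial G).P.obj.obj V ≅ Q.P.obj.obj V := fun V =>
    Equiv.toIso (Equiv.ofBijective (fun g => Q.smul (show G.obj.obj V from g) (s V.unop))
      ⟨fun g g' h => hsmul (T := V.unop) _ _ _ _ h rfl, fun q => (P.isTorsor.1 V (s V.unop) q).exists⟩)
  let eI : (NonAbH1.GSheaf.trivial G).P ≅ Q.P := ObjectProperty.isoMk _ (NatIso.ofComponents e fun {V V'} f => by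
    ext g
    change Q.smul (G.obj.map f (show G.obj.obj V from g)) (s V'.unop) =
      Q.P.obj.map f (Q.smul (show G.obj.obj V from g) (s V.unop))
    rw [Q.map_smul, hnat])
  have hh : ∀ {V : (Over U)ᵒᵖ} (g : G.obj.obj V) (x : (NonAbH1.GSheaf.trivial G).P.obj.obj V),
      eI.hom.hom.app V ((NonAbH1.GSheaf.trivial G).smul g x) = Q.smul g (eI.hom.hom.app V x) := fun {V} g x =>
    Q.mul_smul g (show G.obj.obj V from x) _
  refine ⟨⟨⟨eI.hom, hh⟩, ⟨eI.inv, fun {V} g q => ?_⟩, NonAbH1.GSheaf.hom_ext eI.hom_inv_id,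
    NonAbH1.GSheaf.hom_ext eI.inv_hom_id⟩⟩
  refine (e V).toEquiv.injective ?_
  have h1 : ∀ q', eI.hom.hom.app V (eI.inv.hom.app V q') = q' := fun q' =>
    congr($(congrArg (fun r : Q.P ⟶ Q.P => r.hom.app V) eI.inv_hom_id) q')
  change eI.hom.hom.app V _ = eI.hom.hom.app V _
  rw [h1, hh, h1]

end site

end GrothLib.NonAb21
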